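import Cfsg.Agent.KFacts.AutLarge

/-!
# Odd automorphisms on Sylow 2-subgroups: the K-fact (KOND')

* `Kond K`: an automorphism `t` of odd order of `K`, which normalises `S ∈ Syl₂(K)` such that `[S, t]` is abelian, is
  trivial on `S`, or `S` is elementary abelian.
* `Kond.subgroup`: the form for a group of automorphisms of odd order.
* `kond_of_sylow`, `Kond.congr`: one Sylow 2-subgroup, transport.
* `ex` (EX): `Q ⊴ S` extraspecial, `t`-invariant, `C_S(Q) ≤ Q`, `[Q, t]` abelian ⟹ `t = 1` on `S`.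
* `kond_of_large`: groups with a large extraspecial 2-subgroup.
* `kond_of_inner`: all automorphisms of odd order are inner, odd elements of `N_K(S)` centralise `S`.
-/

set_option autoImplicit false
set_option linter.style.haveILetI false
set_option linter.dupNamespace false

namespace Cfsg.Agent.Omega.Kond.Base

open Subgroup Cfsg.Agent.Co2Type.Quad Cfsg.Agent.KFacts
open scoped Pointwise commutatorElement

universe u v

/-- (KOND') for one Sylow 2-subgroup -/
def KondAt {K : Type u} [Group K] (S : Subgroup K) : Prop :=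
  ∀ t : MulAut K, Odd (orderOf t) → (∀ s ∈ S, t s ∈ S) →
    (∀ s ∈ S, ∀ r ∈ S, (s⁻¹ * t s) * (r⁻¹ * t r) = (r⁻¹ * t r) * (s⁻¹ * t s)) →
    (∀ s ∈ S, t s = s) ∨ (∀ s ∈ S, s * s = 1)

/-- (KOND') -/
def Kond (K : Type u) [Group K] : Prop := ∀ S : Sylow 2 K, KondAt (S : Subgroup K)

variable {K : Type u} [Group K]

/-! ### Transport, one Sylow subgroup -/

theorem KondAt.congr {K' : Type v} [Group K'] (e : K ≃* K') {S : Subgroup K} (h : KondAt S) :
    KondAt (S.map e.toMonoidHom) := by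
  intro t ht hS hc
  set t' : MulAut K := (MulAut.congr e).symm t with ht'
  have hval : ∀ x, e (t' x) = t (e x) := fun x => by
    rw [ht']; simp [MulAut.congr]
  have hodd : Odd (orderOf t') := by
    have : orderOf t' = orderOf t := orderOf_injective (MulAut.congr e).symm.toMonoidHom (MulAut.congr e).symm.injective t
    rw [this]; exact ht
  have hmem : ∀ {x}, e x ∈ S.map e.toMonoidHom ↔ x ∈ S := by
    intro x
    constructor
    · rintro ⟨y, hy, hyx⟩
      rw [← e.injective hyx]; exact hy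
    · exact fun hx => ⟨x, hx, rfl⟩
  have hS' : ∀ s ∈ S, t' s ∈ S := fun s hs => by
    rw [← hmem, hval]; exact hS _ (hmem.2 hs)
  have hc' : ∀ s ∈ S, ∀ r ∈ S, (s⁻¹ * t' s) * (r⁻¹ * t' r) = (r⁻¹ * t' r) * (s⁻¹ * t' s) := by
    intro s hs r hr
    apply e.injective
    simp only [map_mul, map_inv, hval]
    exact hc _ (hmem.2 hs) _ (hmem.2 hr)
  rcases h t' hodd hS' hc' with h1 | h1
  · left
    rintro _ ⟨s, hs, rfl⟩
    show t (e s) = e s
    rw [← hval, h1 s hs]
  · right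
    rintro _ ⟨s, hs, rfl⟩
    show e s * e s = 1
    rw [← map_mul, h1 s hs, map_one]

theorem kond_of_sylow [Finite K] (S₀ : Sylow 2 K) (h : KondAt (S₀ : Subgroup K)) : Kond K := by
  have hfact : Fact (Nat.Prime 2) := ⟨Nat.prime_two⟩
  intro S
  obtain ⟨g, rfl⟩ := MulAction.exists_smul_eq K S₀ S
  have h1 := h.congr (MulAut.conj g)
  rwa [Sylow.coe_subgroup_smul]

theorem Kond.congr [Finite K] {K' : Type v} [Group K'] (e : K ≃* K') (h : Kond K) : Kond K' := by
  have hfact : Fact (Nat.Prime 2) := ⟨Nat.prime_two⟩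
  haveI : Finite K' := Finite.of_equiv K e.toEquiv
  obtain ⟨S⟩ : Nonempty (Sylow 2 K) := inferInstance
  refine kond_of_sylow (S.mapSurjective (f := e.toMonoidHom) e.surjective) ?_
  exact (h S).congr e

/-- the form for a group of automorphisms of odd order -/
theorem Kond.subgroup [Finite K] (h : Kond K) (S : Sylow 2 K) (T : Subgroup (MulAut K)) (hT : Odd (Nat.card T))
    (hS : ∀ t ∈ T, ∀ s ∈ (S : Subgroup K), t s ∈ (S : Subgroup K))
    (hc : ∀ t ∈ T, ∀ t' ∈ T, ∀ s ∈ (S : Subgroup K), ∀ r ∈ (S : Subgroup K),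
      (s⁻¹ * t s) * (r⁻¹ * t' r) = (r⁻¹ * t' r) * (s⁻¹ * t s)) :
    (∀ t ∈ T, ∀ s ∈ (S : Subgroup K), t s = s) ∨ (∀ s ∈ (S : Subgroup K), s * s = 1) := by
  by_cases h2 : ∀ s ∈ (S : Subgroup K), s * s = 1
  · exact Or.inr h2
  · left
    intro t ht
    have hodd : Odd (orderOf t) := by
      refine hT.of_dvd_nat ?_
      rw [← Nat.card_zpowers]
      exact Subgroup.card_dvd_of_le ((zpowers_le).2 ht)
    exact (h S t hodd (hS t ht) (hc t ht t ht)).resolve_right h2

/-! ### (EX) -/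

section EX

variable {S Q : Subgroup K} {z : K} {t : MulAut K}

theorem pow_eq_of_sq {x : K} (n : ℕ) (h : (t * t) x = x) : (t ^ (2 * n)) x = x := by
  induction n with
  | zero => rfl
  | succ n ih =>
    have e : 2 * (n + 1) = 2 * n + 2 := by ring
    rw [e, pow_add, MulAut.mul_apply, pow_two, h, ih]

theorem eq_of_sq (hodd : Odd (orderOf t)) {x : K} (h : (t * t) x = x) : t x = x := by
  obtain ⟨m, hm⟩ := hodd
  have h1 : t ^ (2 * m + 1) = 1 := by rw [← hm]; exact pow_orderOf_eq_one t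
  have h2 : (t ^ (2 * m)) (t x) = x := by
    have h3 := congrArg (fun f : MulAut K => f x) h1
    simp only [pow_succ, MulAut.mul_apply, MulAut.one_apply] at h3
    exact h3
  have h4 : (t * t) (t x) = t x := by
    rw [MulAut.mul_apply]
    exact congrArg t h
  rwa [pow_eq_of_sq m h4] at h2

/-- the elements moved by an element of order two of the centre -/
theorem eq_of_mul_z (hodd : Odd (orderOf t)) (hz : t z = z) (hz2 : z * z = 1) {x : K}
    (h : t x = x ∨ t x = x * z) : t x = x := by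
  rcases h with h | h
  · exact h
  · apply eq_of_sq hodd
    rw [MulAut.mul_apply, h, map_mul, h, hz, mul_assoc, hz2, mul_one]

/-- (EX) on `Q` -/
theorem ex_Q (hodd : Odd (orderOf t)) (hz : t z = z) (hz2 : z * z = 1)
    (hQ : ∀ x ∈ Q, t x ∈ Q) (hzc : ∀ x ∈ Q, x * z = z * x)
    (comm : ∀ x ∈ Q, ∀ y ∈ Q, x * y = y * x ∨ x * y = y * x * z)
    (cent : ∀ x ∈ Q, (∀ y ∈ Q, x * y = y * x) → x = 1 ∨ x = z)
    (hab : ∀ x ∈ Q, ∀ y ∈ Q, (x⁻¹ * t x) * (y⁻¹ * t y) = (y⁻¹ * t y) * (x⁻¹ * t x)) :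
    ∀ x ∈ Q, t x = x := by
  -- the commutator form
  have c1 : ∀ x ∈ Q, ∀ y ∈ Q, ⁅x, y⁆ = 1 ∨ ⁅x, y⁆ = z := by
    intro x hx y hy
    have hyx : ∀ w ∈ Q, w * z = z * w := hzc
    rcases comm x hx y hy with h | h
    · left; rw [commutatorElement_def, h]; group
    · right
      rw [commutatorElement_def, h, mul_assoc y x z, hyx x hx, ← mul_assoc y z x, hyx y hy]
      group
  have ccen : ∀ x ∈ Q, ∀ y ∈ Q, ∀ w ∈ Q, w * ⁅x, y⁆ = ⁅x, y⁆ * w := by
    intro x hx y hy w hw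
    rcases c1 x hx y hy with h | h <;> rw [h]
    · rw [mul_one, one_mul]
    · exact hzc w hw
  have csq : ∀ x ∈ Q, ∀ y ∈ Q, ⁅x, y⁆ * ⁅x, y⁆ = 1 := by
    intro x hx y hy
    rcases c1 x hx y hy with h | h <;> rw [h]
    · rw [one_mul]
    · exact hz2
  have cl : ∀ x ∈ Q, ∀ y ∈ Q, ∀ w ∈ Q, ⁅x * y, w⁆ = ⁅x, w⁆ * ⁅y, w⁆ := by
    intro x hx y hy w hw
    have h1 : ⁅x * y, w⁆ = (x * ⁅y, w⁆) * x⁻¹ * ⁅x, w⁆ := by
      simp only [commutatorElement_def]; group
    rw [h1, ccen y hy w hw x hx, mul_inv_cancel_right, ccen y hy w hw _ (by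
      rw [commutatorElement_def]
      exact Q.mul_mem (Q.mul_mem (Q.mul_mem hx hw) (Q.inv_mem hx)) (Q.inv_mem hw))]
  have cr : ∀ x ∈ Q, ∀ y ∈ Q, ∀ w ∈ Q, ⁅x, y * w⁆ = ⁅x, y⁆ * ⁅x, w⁆ := by
    intro x hx y hy w hw
    have h1 : ⁅x, y * w⁆ = ⁅x, y⁆ * ((y * ⁅x, w⁆) * y⁻¹) := by
      simp only [commutatorElement_def]; group
    rw [h1, ccen x hx w hw y hy, mul_inv_cancel_right]
  have ci : ∀ x ∈ Q, ∀ w ∈ Q, ⁅x⁻¹, w⁆ = ⁅x, w⁆ := by
    intro x hx w hw
    have h1 := cl x hx x⁻¹ (Q.inv_mem hx) w hw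
    rw [mul_inv_cancel, commutatorElement_one_left] at h1
    have h2 := csq x hx w hw
    rw [← h2] at h1
    exact (mul_left_cancel h1).symm
  have ci' : ∀ x ∈ Q, ∀ w ∈ Q, ⁅x, w⁻¹⁆ = ⁅x, w⁆ := by
    intro x hx w hw
    have h1 := cr x hx w hw w⁻¹ (Q.inv_mem hw)
    rw [mul_inv_cancel, commutatorElement_one_right] at h1
    have h2 := csq x hx w hw
    rw [← h2] at h1
    exact (mul_left_cancel h1).symm
  have ct : ∀ x ∈ Q, ∀ y ∈ Q, ⁅t x, t y⁆ = ⁅x, y⁆ := by
    intro x hx y hy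
    rw [← map_commutatorElement]
    rcases c1 x hx y hy with h | h <;> rw [h]
    · rw [map_one]
    · exact hz
  have key : ∀ x ∈ Q, ∀ y ∈ Q, ⁅x, t y⁆ = ⁅t x, y⁆ := by
    intro x hx y hy
    have hx' := hQ x hx
    have hy' := hQ y hy
    have h1 : ⁅x⁻¹ * t x, y⁻¹ * t y⁆ = 1 := by
      rw [commutatorElement_eq_one_iff_mul_comm]
      exact hab x hx y hy
    rw [cl _ (Q.inv_mem hx) _ hx' _ (Q.mul_mem (Q.inv_mem hy) hy'), cr _ (Q.inv_mem hx) _ (Q.inv_mem hy) _ hy',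
      cr _ hx' _ (Q.inv_mem hy) _ hy', ci x hx _ (Q.inv_mem hy), ci' x hx y hy, ci x hx _ hy', ci' _ hx' y hy,
      ct x hx y hy] at h1
    -- `f x y * f x (t y) * (f (t x) y * f x y) = 1`
    have e := ccen x hx y hy
    have h2 : ⁅x, t y⁆ * ⁅t x, y⁆ = 1 := by
      have h3 : ⁅x, y⁆ * ⁅x, t y⁆ * (⁅t x, y⁆ * ⁅x, y⁆) = ⁅x, t y⁆ * ⁅t x, y⁆ * (⁅x, y⁆ * ⁅x, y⁆) := by
        have m1 : ⁅x, t y⁆ ∈ Q := by
          rw [commutatorElement_def]
          exact Q.mul_mem (Q.mul_mem (Q.mul_mem hx hy') (Q.inv_mem hx)) (Q.inv_mem hy')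
        rw [← e _ m1]
        simp only [mul_assoc]
        rw [← mul_assoc ⁅x, y⁆ ⁅t x, y⁆, ← e _ (by
          rw [commutatorElement_def]
          exact Q.mul_mem (Q.mul_mem (Q.mul_mem hx' hy) (Q.inv_mem hx')) (Q.inv_mem hy))]
        simp only [mul_assoc]
      rw [h3, csq x hx y hy, mul_one] at h1
      exact h1
    have h4 := csq (t x) hx' y hy
    rw [← h4] at h2
    exact mul_right_cancel h2
  -- `t y` and `t⁻¹ y`
  have fin : ∀ y ∈ Q, (t * t) y = y := by
    intro y hy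
    have hy' := hQ y hy
    have hy2 := hQ _ hy'
    have h1 : ∀ x ∈ Q, ⁅x, t (t y) * y⁻¹⁆ = 1 := by
      intro x hx
      rw [cr x hx _ hy2 _ (Q.inv_mem hy), ci' x hx y hy, key x hx (t y) hy', ct x hx y hy, csq x hx y hy]
    have h2 : t (t y) * y⁻¹ = 1 ∨ t (t y) * y⁻¹ = z := by
      refine cent _ (Q.mul_mem hy2 (Q.inv_mem hy)) fun x hx => ?_
      exact ((commutatorElement_eq_one_iff_mul_comm).1 (h1 x hx)).symm
    have hodd2 : Odd (orderOf (t * t)) := by
      rw [← pow_two]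
      exact hodd.of_dvd_nat (orderOf_pow_dvd 2)
    have hz' : (t * t) z = z := by rw [MulAut.mul_apply, hz, hz]
    refine eq_of_mul_z hodd2 hz' hz2 ?_
    rcases h2 with h2 | h2
    · left
      exact mul_inv_eq_one.1 h2
    · right
      rw [MulAut.mul_apply]
      rw [mul_inv_eq_iff_eq_mul] at h2
      rw [h2, hzc y hy]
  exact fun y hy => eq_of_sq hodd (fin y hy)

/-- (EX) on `S` -/
theorem ex (hodd : Odd (orderOf t)) (hz : t z = z) (hz2 : z * z = 1) (hSQ : ∀ s ∈ S, ∀ x ∈ Q, s * x * s⁻¹ ∈ Q)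
    (hS : ∀ s ∈ S, t s ∈ S) (hself : ∀ s ∈ S, (∀ x ∈ Q, s * x = x * s) → s = 1 ∨ s = z)
    (h1 : ∀ x ∈ Q, t x = x) : ∀ s ∈ S, t s = s := by
  intro s hs
  have h2 : ∀ x ∈ Q, (s⁻¹ * t s) * x = x * (s⁻¹ * t s) := by
    intro x hx
    have h3 : t (s * x * s⁻¹) = s * x * s⁻¹ := h1 _ (hSQ s hs x hx)
    rw [map_mul, map_mul, map_inv, h1 x hx] at h3
    calc (s⁻¹ * t s) * x = s⁻¹ * (t s * x * (t s)⁻¹) * t s := by group
      _ = s⁻¹ * (s * x * s⁻¹) * t s := by rw [h3]
      _ = x * (s⁻¹ * t s) := by group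
  apply eq_of_mul_z hodd hz hz2
  rcases hself _ (S.mul_mem (S.inv_mem hs) (hS s hs)) h2 with h3 | h3
  · left
    exact (inv_mul_eq_one.1 h3).symm
  · right
    rw [inv_mul_eq_iff_eq_mul] at h3
    exact h3

end EX

/-! ### Groups with a large extraspecial subgroup -/

section LargeCase

variable {Q : Subgroup K} {z : K}

/-- the group of a Sylow subgroup in `C(z)` -/
theorem kondAt_of_large (h : Large Q z) {S : Sylow 2 K} (hS : (S : Subgroup K) ≤ centralizer ({z} : Set K))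
    (hinv : ∀ α : MulAut K, Odd (orderOf α) → α z = z → ∀ x ∈ Q, α x ∈ Q) : KondAt (S : Subgroup K) := by
  intro t ht htS hc
  left
  have hfact : Fact (Nat.Prime 2) := ⟨Nat.prime_two⟩
  have hQS := AutLarge.le_sylow h S hS
  have hcen : ∀ x ∈ (S : Subgroup K), x * z = z * x := fun x hx => Subgroup.mem_centralizer_singleton_iff.1 (hS hx)
  -- `t` fixes `z`
  have hz : t z = z := by
    have hmS : ∀ x ∈ (S : Subgroup K), ∃ y ∈ (S : Subgroup K), t y = x := by
      intro x hx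
      obtain ⟨n, hn⟩ : ∃ n : ℕ, t ^ (n + 1) = 1 := by
        obtain ⟨m, hm⟩ := ht
        exact ⟨2 * m, by rw [← hm]; exact pow_orderOf_eq_one t⟩
      have hp : ∀ n : ℕ, (t ^ n) x ∈ (S : Subgroup K) := by
        intro n
        induction n with
        | zero => exact hx
        | succ n ih =>
          rw [pow_succ', MulAut.mul_apply]
          exact htS _ ih
      refine ⟨(t ^ n) x, hp n, ?_⟩
      rw [← MulAut.mul_apply, ← pow_succ', hn, MulAut.one_apply]
    have h1 : ∀ x ∈ (S : Subgroup K), t z * x = x * t z := by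
      intro x hx
      obtain ⟨y, hy, rfl⟩ := hmS x hx
      rw [← map_mul, ← map_mul, hcen y hy]
    rcases LargeE.cent_eq h (h1 z (hQS h.z_mem)) (fun x hx => h1 x (hQS hx)) with h2 | h2
    · exact absurd ((map_eq_one_iff t t.injective).1 h2) h.z_ne
    · exact h2
  have hQ := hinv t ht hz
  have h1 := ex_Q ht hz h.z_sq hQ h.comm_z h.comm h.cent (fun x hx y hy => hc x (hQS hx) y (hQS hy))
  exact ex ht hz h.z_sq (fun s hs => h.conj_mem s (hcen s hs)) htS
    (fun s hs hs' => LargeE.cent_eq h (hcen s hs) hs') h1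

/-- groups with a large extraspecial subgroup invariant under the automorphisms fixing `z` -/
theorem kond_of_large [Finite K] (h : Large Q z) (hidx : Odd (centralizer ({z} : Set K)).index)
    (hinv : ∀ α : MulAut K, Odd (orderOf α) → α z = z → ∀ x ∈ Q, α x ∈ Q) : Kond K := by
  obtain ⟨S, hS⟩ := AutLarge.exists_sylow hidx
  exact kond_of_sylow S (kondAt_of_large h hS hinv)

/-- `C(z)` irreducible on `Q / ⟨z⟩` -/
theorem kond_of_irr [Finite K] (h : Large Q z) (hidx : Odd (centralizer ({z} : Set K)).index) (hirr : AutLarge.Irr Q z)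
    (hne : ∃ x ∈ Q, x ≠ 1 ∧ x ≠ z) : Kond K :=
  kond_of_large h hidx fun _ _ hα _ hx => AutLarge.map_mem h hirr hne hα hx

/-- all automorphisms of odd order are inner -/
theorem kond_of_large_inner [Finite K] (h : Large Q z) (hidx : Odd (centralizer ({z} : Set K)).index)
    (hout : ∀ α : MulAut K, Odd (orderOf α) → ∃ g : K, α = MulAut.conj g) : Kond K :=
  kond_of_large h hidx fun α ho hα x hx => by
    obtain ⟨g, rfl⟩ := hout α ho
    rw [MulAut.conj_apply]
    rw [MulAut.conj_apply, mul_inv_eq_iff_eq_mul] at hα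
    exact h.conj_mem g hα x hx

end LargeCase

/-! ### Inner automorphisms -/

/-- an inner automorphism of odd order is the conjugation by an element of odd order -/
theorem exists_odd [Finite K] {g : K} (hodd : Odd (orderOf (MulAut.conj g))) :
    ∃ g' : K, Odd (orderOf g') ∧ MulAut.conj g' = MulAut.conj g := by
  have hfact : Fact (Nat.Prime 2) := ⟨Nat.prime_two⟩
  obtain ⟨k, m, hm, hk⟩ := Nat.exists_eq_two_pow_mul_odd (orderOf_pos g).ne'
  have hcop : Nat.Coprime (2 ^ k) (orderOf (MulAut.conj g)) :=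
    Nat.Coprime.pow_left k ((Nat.coprime_two_left).2 hodd)
  obtain ⟨a, ha1, ha2⟩ := Nat.chineseRemainder hcop 0 1
  refine ⟨g ^ a, ?_, ?_⟩
  · rw [Nat.modEq_zero_iff_dvd] at ha1
    obtain ⟨b, rfl⟩ := ha1
    rw [pow_mul]
    refine (hm.of_dvd_nat ?_ : Odd _)
    refine (orderOf_pow_dvd b).trans ?_
    rw [orderOf_pow, hk, Nat.gcd_eq_right (dvd_mul_right _ _)]
    rw [Nat.mul_div_cancel_left _ (by positivity)]
  · rw [map_pow]
    have h1 : MulAut.conj g ^ a = MulAut.conj g ^ 1 := pow_eq_pow_iff_modEq.2 ha2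
    rw [h1, pow_one]

/-- the Sylow 2-normaliser has only trivial odd elements (on `S`), all automorphisms of odd order are inner -/
theorem kond_of_inner [Finite K] (S₀ : Sylow 2 K)
    (hout : ∀ α : MulAut K, Odd (orderOf α) → ∃ g : K, α = MulAut.conj g)
    (h : ∀ g : K, Odd (orderOf g) → (∀ s ∈ (S₀ : Subgroup K), g * s * g⁻¹ ∈ (S₀ : Subgroup K)) →
      ∀ s ∈ (S₀ : Subgroup K), g * s = s * g) : Kond K := by
  refine kond_of_sylow S₀ fun t ht hS _ => Or.inl ?_
  obtain ⟨g, rfl⟩ := hout t ht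
  obtain ⟨g', hg', e⟩ := exists_odd ht
  rw [← e] at hS ⊢
  intro s hs
  rw [MulAut.conj_apply, mul_inv_eq_iff_eq_mul]
  exact h g' hg' (fun s hs => by simpa using hS s hs) s hs

/-- the outer automorphism group is a 2-group -/
theorem inner_of_pow (h : ∀ α : MulAut K, ∃ n : ℕ, ∃ g : K, α ^ 2 ^ n = MulAut.conj g) :
    ∀ α : MulAut K, Odd (orderOf α) → ∃ g : K, α = MulAut.conj g := by
  intro α hα
  obtain ⟨n, g, hg⟩ := h α
  have hcop : Nat.Coprime (2 ^ n) (orderOf α) := Nat.Coprime.pow_left n ((Nat.coprime_two_left).2 hα)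
  obtain ⟨a, ha1, ha2⟩ := Nat.chineseRemainder hcop 0 1
  rw [Nat.modEq_zero_iff_dvd] at ha1
  obtain ⟨b, rfl⟩ := ha1
  refine ⟨g ^ b, ?_⟩
  have h1 : α ^ (2 ^ n * b) = α ^ 1 := pow_eq_pow_iff_modEq.2 ha2
  rw [pow_one, pow_mul, hg, ← map_pow] at h1
  exact h1.symm

/-- the outer automorphism group is a 2-group -/
theorem inner_of_index [Finite K] {n : ℕ} (h : (MulAut.conj : K →* MulAut K).range.index = 2 ^ n) :
    ∀ α : MulAut K, Odd (orderOf α) → ∃ g : K, α = MulAut.conj g := by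
  refine inner_of_pow fun α => ⟨n, ?_⟩
  have hn : (MulAut.conj : K →* MulAut K).range.Normal := by
    refine ⟨?_⟩
    rintro _ ⟨g, rfl⟩ β
    refine ⟨β g, ?_⟩
    ext x
    simp [MulAut.conj_apply]
  have h1 : α ^ (MulAut.conj : K →* MulAut K).range.index ∈ (MulAut.conj : K →* MulAut K).range :=
    Subgroup.pow_index_mem _ α
  rw [h] at h1
  obtain ⟨g, hg⟩ := h1
  exact ⟨g, hg.symm⟩

end Cfsg.Agent.Omega.Kond.Base
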