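import Cfsg.Agent.Omega.Kond.Base
import Cfsg.Agent.Schreier.Tools2

/-!
# Two-groups without automorphisms of odd order

* `Rigid S`: every automorphism of odd order of `S` is trivial; `kond_of_rigid`.
* tools: `fix_of_sq` (`t² x ≡ x`), `fix_of_swap` (two cosets are permuted), `fix_all` (the cosets fixed by `t` form a
  subgroup of index at most 2), `eq_one_of_mod` (`Φ ≤ frattini`).
-/

set_option autoImplicit false
set_option linter.dupNamespace false

namespace Cfsg.Agent.Omega.Kond.Rigid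

open Subgroup Cfsg.Agent.Omega.Kond.Base

universe u v

/-- no automorphisms of odd order -/
def Rigid (S : Type u) [Group S] : Prop := ∀ t : MulAut S, Odd (orderOf t) → t = 1

variable {S : Type u} [Group S]

theorem Rigid.congr {S' : Type v} [Group S'] (e : S ≃* S') (h : Rigid S) : Rigid S' := by
  intro t ht
  have h1 : (MulAut.congr e).symm t = 1 := by
    apply h
    have : orderOf ((MulAut.congr e).symm t) = orderOf t :=
      orderOf_injective (MulAut.congr e).symm.toMonoidHom (MulAut.congr e).symm.injective t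
    rw [this]; exact ht
  have h2 := congrArg (MulAut.congr e) h1
  rwa [MulEquiv.apply_symm_apply, map_one] at h2

section Restrict

variable {K : Type u} [Group K]

/-- the restriction of an automorphism to an invariant finite subgroup -/
theorem exists_restrict {S : Subgroup K} [Finite S] (t : MulAut K) (hS : ∀ s ∈ S, t s ∈ S) :
    ∃ r : MulAut S, (∀ s : S, ((r s : S) : K) = t s) ∧ (Odd (orderOf t) → Odd (orderOf r)) := by
  let f : S →* S := (t.toMonoidHom.comp S.subtype).codRestrict S fun s => hS s s.2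
  have hf : Function.Injective f := by
    intro a b hab
    have h1 := congrArg Subtype.val hab
    exact Subtype.ext (t.injective h1)
  let r : MulAut S := MulEquiv.ofBijective f (Finite.injective_iff_bijective.1 hf)
  have hr : ∀ s : S, ((r s : S) : K) = t s := fun _ => rfl
  refine ⟨r, hr, fun hodd => ?_⟩
  refine hodd.of_dvd_nat (orderOf_dvd_of_pow_eq_one ?_)
  have hp : ∀ (n : ℕ) (s : S), (((r ^ n) s : S) : K) = (t ^ n) s := by
    intro n
    induction n with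
    | zero => intro s; rfl
    | succ n ih =>
      intro s
      rw [pow_succ, pow_succ, MulAut.mul_apply, MulAut.mul_apply, ih, hr]
  apply MulEquiv.ext
  intro s
  apply Subtype.ext
  rw [hp, pow_orderOf_eq_one]
  rfl

theorem kondAt_of_rigid {S : Subgroup K} [Finite S] (h : Rigid S) : KondAt S := by
  intro t ht hS _
  left
  obtain ⟨r, hr, hro⟩ := exists_restrict t hS
  have h1 := h r (hro ht)
  intro s hs
  have h2 := hr ⟨s, hs⟩
  rw [h1] at h2
  exact h2.symm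

theorem kond_of_rigid [Finite K] {T : Type v} [Group T] (hT : Rigid T) (S₀ : Sylow 2 K)
    (e : T ≃* (S₀ : Subgroup K)) : Kond K :=
  kond_of_sylow S₀ (kondAt_of_rigid (hT.congr e))

/-- elementary abelian Sylow subgroups -/
theorem kond_of_elementary (h : ∀ (S : Sylow 2 K), ∀ s ∈ (S : Subgroup K), s * s = 1) : Kond K :=
  fun S _ _ _ _ => Or.inr (h S)

end Restrict

/-! ### Fixed cosets -/

section Fix

variable {t : MulAut S} {Φ : Subgroup S}

theorem mod_symm (x y : S) (h : x * y⁻¹ ∈ Φ) : y * x⁻¹ ∈ Φ := by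
  have h1 := Φ.inv_mem h
  rwa [mul_inv_rev, inv_inv] at h1

theorem mod_trans {x y w : S} (h : x * y⁻¹ ∈ Φ) (h' : y * w⁻¹ ∈ Φ) : x * w⁻¹ ∈ Φ := by
  have h1 := Φ.mul_mem h h'
  have e : x * y⁻¹ * (y * w⁻¹) = x * w⁻¹ := by group
  rwa [e] at h1

theorem map_mod (hΦ : ∀ x ∈ Φ, t x ∈ Φ) {x y : S} (h : x * y⁻¹ ∈ Φ) : t x * (t y)⁻¹ ∈ Φ := by
  have h1 := hΦ _ h
  rwa [map_mul, map_inv] at h1

theorem pow_mod (hΦ : ∀ x ∈ Φ, t x ∈ Φ) {x : S} (h : t x * x⁻¹ ∈ Φ) (n : ℕ) : (t ^ n) x * x⁻¹ ∈ Φ := by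
  induction n with
  | zero => rw [pow_zero, MulAut.one_apply, mul_inv_cancel]; exact Φ.one_mem
  | succ n ih =>
    rw [pow_succ', MulAut.mul_apply]
    exact mod_trans (map_mod hΦ ih) h

/-- `t² x ≡ x` -/
theorem fix_of_sq (ht : Odd (orderOf t)) (hΦ : ∀ x ∈ Φ, t x ∈ Φ) {x : S} (h : t (t x) * x⁻¹ ∈ Φ) :
    t x * x⁻¹ ∈ Φ := by
  obtain ⟨m, hm⟩ := ht
  have h1 : (t ^ (2 * m + 1)) = 1 := by rw [← hm]; exact pow_orderOf_eq_one t
  have h2 : ∀ k : ℕ, (t ^ (2 * k)) x * x⁻¹ ∈ Φ := by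
    intro k
    induction k with
    | zero => rw [mul_zero, pow_zero, MulAut.one_apply, mul_inv_cancel]; exact Φ.one_mem
    | succ k ih =>
      have e : 2 * (k + 1) = 2 + 2 * k := by ring
      rw [e, pow_add, MulAut.mul_apply, pow_two, MulAut.mul_apply]
      exact mod_trans (map_mod hΦ (map_mod hΦ ih)) h
  have h3 := map_mod hΦ (h2 m)
  rw [← MulAut.mul_apply, ← pow_succ', h1, MulAut.one_apply] at h3
  exact mod_symm _ _ h3

/-- two cosets are permuted -/
theorem fix_of_swap (ht : Odd (orderOf t)) (hΦ : ∀ x ∈ Φ, t x ∈ Φ) {x y : S}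
    (hx : t x * x⁻¹ ∈ Φ ∨ t x * y⁻¹ ∈ Φ) (hy : t y * x⁻¹ ∈ Φ ∨ t y * y⁻¹ ∈ Φ) : t x * x⁻¹ ∈ Φ := by
  apply fix_of_sq ht hΦ
  rcases hx with hx | hx
  · exact mod_trans (map_mod hΦ hx) hx
  · rcases hy with hy | hy
    · exact mod_trans (map_mod hΦ hx) hy
    · -- `t (t x) ≡ t y ≡ y ≡ t x`
      have h1 : t (t x) * (t x)⁻¹ ∈ Φ := mod_trans (map_mod hΦ hx) (mod_trans hy (mod_symm _ _ hx))
      -- apply the inverse of `t`
      have h2 : ∀ x ∈ Φ, (t ^ (orderOf t - 1)) x ∈ Φ := by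
        intro x hx
        generalize orderOf t - 1 = n
        induction n with
        | zero => exact hx
        | succ n ih => rw [pow_succ', MulAut.mul_apply]; exact hΦ _ ih
      have h3 := h2 _ h1
      have e : (t ^ (orderOf t - 1)) * t = 1 := by
        rw [← pow_succ]
        have : orderOf t - 1 + 1 = orderOf t := by
          obtain ⟨m, hm⟩ := ht
          omega
        rw [this]; exact pow_orderOf_eq_one t
      have e' : ∀ w : S, (t ^ (orderOf t - 1)) (t w) = w := fun w => by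
        rw [← MulAut.mul_apply, e, MulAut.one_apply]
      rw [map_mul, map_inv, e', e'] at h3
      exact mod_trans (map_mod hΦ h3) h3

/-- the elements whose coset is fixed -/
def fixS (t : MulAut S) (Φ : Subgroup S) (hn : Φ.Normal) : Subgroup S where
  carrier := {x | t x * x⁻¹ ∈ Φ}
  one_mem' := by
    show t 1 * 1⁻¹ ∈ Φ
    rw [map_one, inv_one, mul_one]; exact Φ.one_mem
  mul_mem' := fun {a b} ha hb => by
    show t (a * b) * (a * b)⁻¹ ∈ Φ
    have e : t (a * b) * (a * b)⁻¹ = t a * (t b * b⁻¹) * (t a)⁻¹ * (t a * a⁻¹) := by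
      rw [map_mul]; group
    rw [e]
    exact Φ.mul_mem (hn.conj_mem _ hb _) ha
  inv_mem' := fun {a} ha => by
    show t a⁻¹ * a⁻¹⁻¹ ∈ Φ
    have e : t a⁻¹ * a⁻¹⁻¹ = (t a)⁻¹ * (t a * a⁻¹)⁻¹ * (t a)⁻¹⁻¹ := by
      rw [map_inv]; group
    rw [e]
    exact hn.conj_mem _ (Φ.inv_mem ha) _

theorem mem_fixS {hn : Φ.Normal} {x : S} : x ∈ fixS t Φ hn ↔ t x * x⁻¹ ∈ Φ := Iff.rfl

/-- one step down: `t` is trivial on `S / F` and on `F / Φ` -/
theorem step (ht : Odd (orderOf t)) (hΦ : ∀ x ∈ Φ, t x ∈ Φ) {F : Subgroup S}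
    (h1 : ∀ x, t x * x⁻¹ ∈ F) (h2 : ∀ x ∈ F, t x * x⁻¹ ∈ Φ) (h3 : ∀ x ∈ F, x * x ∈ Φ) :
    ∀ x, t x * x⁻¹ ∈ Φ := by
  intro x
  apply fix_of_sq ht hΦ
  -- `t (t x) = t f * t x ≡ f f x`
  have h4 := h2 _ (h1 x)
  have h5 := h3 _ (h1 x)
  have e : t (t x) * x⁻¹ = t (t x * x⁻¹) * (t x * x⁻¹)⁻¹ * ((t x * x⁻¹) * (t x * x⁻¹)) := by
    rw [map_mul, map_inv]; group
  rw [e]
  exact Φ.mul_mem h4 h5

/-- the cosets fixed by `t` form a subgroup of index at most 2 -/
theorem fix_all (ht : Odd (orderOf t)) (hn : Φ.Normal) (hΦ : ∀ x ∈ Φ, t x ∈ Φ) (hsq : ∀ x, x * x ∈ Φ)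
    (h : ∀ x y, ¬ t x * x⁻¹ ∈ Φ → ¬ t y * y⁻¹ ∈ Φ → t (x * y⁻¹) * (x * y⁻¹)⁻¹ ∈ Φ) :
    ∀ x, t x * x⁻¹ ∈ Φ := by
  refine step ht hΦ (F := fixS t Φ hn) ?_ (fun x hx => hx) (fun x _ => hsq x)
  intro x
  by_cases hx : t x * x⁻¹ ∈ Φ
  · show t (t x * x⁻¹) * (t x * x⁻¹)⁻¹ ∈ Φ
    exact Φ.mul_mem (hΦ _ hx) (Φ.inv_mem hx)
  · apply h _ _ _ hx
    intro h1
    apply hx
    -- `t (t x) ≡ t x`
    exact fix_of_sq ht hΦ (by
      have h2 : ∀ x ∈ Φ, (t ^ (orderOf t - 1)) x ∈ Φ := by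
        intro x hx
        generalize orderOf t - 1 = n
        induction n with
        | zero => exact hx
        | succ n ih => rw [pow_succ', MulAut.mul_apply]; exact hΦ _ ih
      have e : (t ^ (orderOf t - 1)) * t = 1 := by
        rw [← pow_succ]
        have : orderOf t - 1 + 1 = orderOf t := by
          obtain ⟨m, hm⟩ := ht
          omega
        rw [this]; exact pow_orderOf_eq_one t
      have e' : ∀ w : S, (t ^ (orderOf t - 1)) (t w) = w := fun w => by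
        rw [← MulAut.mul_apply, e, MulAut.one_apply]
      have h3 := h2 _ h1
      rw [map_mul, map_inv, e', e'] at h3
      exact absurd h3 hx)

/-- generators in the fixed cosets or in one more coset -/
theorem fix_all_gen (ht : Odd (orderOf t)) (hn : Φ.Normal) (hΦ : ∀ x ∈ Φ, t x ∈ Φ) (hsq : ∀ x, x * x ∈ Φ)
    (g : S) {X : Set S} (hX : closure X = ⊤)
    (h : ∀ x ∈ X, t x * x⁻¹ ∈ Φ ∨ t (x * g⁻¹) * (x * g⁻¹)⁻¹ ∈ Φ) : ∀ x, t x * x⁻¹ ∈ Φ := by
  set F : Subgroup S := fixS t Φ hn with hF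
  have hΦF : Φ ≤ F := fun x hx => Φ.mul_mem (hΦ _ hx) (Φ.inv_mem hx)
  -- commutators
  have hcomm : ∀ a b : S, a * b * a⁻¹ * b⁻¹ ∈ Φ := by
    intro a b
    have e : a * b * a⁻¹ * b⁻¹ = (a * b) * (a * b) * ((b⁻¹ * (a⁻¹ * a⁻¹) * b⁻¹⁻¹) * (b⁻¹ * b⁻¹)) := by group
    rw [e]
    exact Φ.mul_mem (hsq _) (Φ.mul_mem (hn.conj_mem _ (hsq _) _) (hsq _))
  have hFn : ∀ x ∈ F, ∀ a : S, a * x * a⁻¹ ∈ F := by
    intro x hx a
    have e : a * x * a⁻¹ = (a * x * a⁻¹ * x⁻¹) * x := by group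
    rw [e]
    exact F.mul_mem (hΦF (hcomm a x)) hx
  have hg2 : g * g ∈ F := hΦF (hsq g)
  let P : Subgroup S :=
    { carrier := {x | x ∈ F ∨ x * g⁻¹ ∈ F}
      one_mem' := Or.inl F.one_mem
      mul_mem' := fun {x y} hx hy => by
        rcases hx with hx | hx <;> rcases hy with hy | hy
        · exact Or.inl (F.mul_mem hx hy)
        · right; rw [mul_assoc]; exact F.mul_mem hx hy
        · right
          have e : x * y * g⁻¹ = (x * g⁻¹) * (g * y * g⁻¹) := by group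
          rw [e]; exact F.mul_mem hx (hFn y hy g)
        · left
          have e : x * y = (x * g⁻¹) * (g * (y * g⁻¹) * g⁻¹) * (g * g) := by group
          rw [e]; exact F.mul_mem (F.mul_mem hx (hFn _ hy g)) hg2
      inv_mem' := fun {x} hx => by
        rcases hx with hx | hx
        · exact Or.inl (F.inv_mem hx)
        · right
          have e : x⁻¹ * g⁻¹ = ((g * (x * g⁻¹) * g⁻¹) * (g * g))⁻¹ := by group
          rw [e]; exact F.inv_mem (F.mul_mem (hFn _ hx g) hg2) }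
  have hP : ∀ x : S, x ∈ F ∨ x * g⁻¹ ∈ F := by
    intro x
    have h1 : closure X ≤ P := (closure_le _).2 fun x hx => h x hx
    rw [hX] at h1
    exact h1 (mem_top x)
  refine fix_all ht hn hΦ hsq fun x y hx hy => ?_
  have h1 := (hP x).resolve_left hx
  have h2 := (hP y).resolve_left hy
  have e : x * y⁻¹ = (x * g⁻¹) * (y * g⁻¹)⁻¹ := by group
  have h3 : x * y⁻¹ ∈ F := by rw [e]; exact F.mul_mem h1 (F.inv_mem h2)
  exact h3

/-- `Φ ≤ frattini S` -/
theorem eq_one_of_mod [Finite S] (hS : IsPGroup 2 S) (ht : Odd (orderOf t)) (hΦ : Φ ≤ frattini S)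
    (h : ∀ x, t x * x⁻¹ ∈ Φ) : t = 1 := by
  have : Fact (Nat.Prime 2) := ⟨Nat.prime_two⟩
  exact Cfsg.Agent.Schreier.Tools2.eq_one_of_coprime hS t ((Nat.coprime_two_right).2 ht) fun x => hΦ (h x)

end Fix

end Cfsg.Agent.Omega.Kond.Rigid
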