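import Cfsg.Agent.Omega.Kond.Rigid
import Cfsg.Agent.SporadicB.J1.Main

/-!
# (KOND') for `J1`: elementary abelian Sylow 2-subgroups
-/

set_option autoImplicit false

namespace Cfsg.Agent.Omega.Kond.RowJ1

open Subgroup Cfsg Cfsg.Agent.Omega.Kond.Base Cfsg.Agent.Omega.Kond.Rigid Cfsg.Agent.SporadicB.J1.Mat
  Cfsg.Agent.SporadicB.J1.Main
open Cfsg.Spor (J1)

universe u

theorem card_J1 : Nat.card J1 = 175560 := isJ1.2

instance : Finite J1 := Nat.finite_of_card_ne_zero (by rw [card_J1]; norm_num)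

theorem kond_J1 : Kond J1 := by
  have : Fact (Nat.Prime 2) := ⟨Nat.prime_two⟩
  have hE : Nat.card data.E = 8 := by
    have h : Nat.card (Set.range data.e) = 8 := by
      rw [Nat.card_congr (Equiv.ofInjective data.e data.he).symm]
      simp
    exact h
  have hmul : Nat.card data.E = 2 ^ (Nat.card J1).factorization 2 := by
    rw [hE, card_J1, show (175560 : ℕ) = 2 ^ 3 * 21945 by norm_num,
      Nat.factorization_mul (by norm_num) (by norm_num), Nat.Prime.factorization_pow Nat.prime_two]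
    rw [Finsupp.add_apply, Finsupp.single_eq_same,
      Nat.factorization_eq_zero_of_not_dvd (by norm_num : ¬ 2 ∣ 21945)]
    norm_num
  let P : Sylow 2 J1 := Sylow.ofCard data.E hmul
  apply kond_of_elementary
  intro S s hs
  obtain ⟨g, hg⟩ := MulAction.exists_smul_eq J1 S P
  have h1 : g * s * g⁻¹ ∈ (P : Subgroup J1) := by
    rw [← hg]
    exact smul_mem_pointwise_smul _ (MulAut.conj g) _ hs
  obtain ⟨i, hi⟩ : g * s * g⁻¹ ∈ Set.range data.e := h1
  have h2 : e i * e i = 1 := ((rep_e i).mul (rep_e i)).eq Rep.one (ce_sq i)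
  have h3 : (g * s * g⁻¹) * (g * s * g⁻¹) = 1 := by rw [← hi]; exact h2
  have h4 : (g * s * g⁻¹) * (g * s * g⁻¹) = g * (s * s) * g⁻¹ := by group
  rw [h4, conj_eq_one_iff] at h3
  exact h3

/-- **(KOND') for `J1`** -/
theorem row_J1 {K : Type u} [Group K] (h : Spor.IsoJ1 K) : Kond K := by
  obtain ⟨e⟩ := h
  exact kond_J1.congr e.symm

end Cfsg.Agent.Omega.Kond.RowJ1
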