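import Cfsg.Agent.Omega.Kond.Rigid
import Cfsg.Agent.Schreier.SylMTwentyTwo
import Cfsg.Agent.SporadicA.MathieuRecog
import Cfsg.Prelude.Def_Classification2

/-!
# (KOND') for `M22`, `M23`, `McL`

The Sylow 2-subgroup `T` of order 128 has no automorphisms of odd order.
-/

set_option autoImplicit false

namespace Cfsg.Agent.Omega.Kond.RowM22

open Subgroup Cfsg Cfsg.Agent.Golay.Orbit Cfsg.Agent.Schreier.SylMTwentyTwo Cfsg.Agent.Omega.Kond.Base
  Cfsg.Agent.Omega.Kond.Rigid

/-- membership by squares: `l = m m w` for some `m` -/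
def sqm (w l : List ℕ) : Bool := els.any fun m => mulL (mulL m m) w == l

/-- the tables of the generators -/
def t0 : List ℕ := gl.getD 0 []
def t1 : List ℕ := gl.getD 1 []
def t2 : List ℕ := gl.getD 2 []

theorem chk1 : (els.all fun l => (pow4 l == idL) || sqm t2 l) = true := by decide +kernel

def w1 : List ℕ := mulL t2 t2
def y2 : List ℕ := mulL t2 (mulL t0 t0)
def w2 : List ℕ := mulL y2 y2
def b0 : List ℕ := mulL t1 t0

theorem chk2 : (els.all fun l => !(mulL l w1 == mulL w1 l) || !(mulL l w2 == mulL w2 l) || sqm idL l || sqm b0 l) = true := by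
  decide +kernel

theorem chk3 : (els.all fun l => (pow4 l == idL) || (mulL b0 (mulL l l) == mulL (mulL l l) b0)) = true := by
  decide +kernel

theorem chk4 : (!(pow4 y2 == idL)) = true := by decide +kernel

/-! ### elements -/

theorem exists_tab (x : T) : ∃ l ∈ els, Rp (x : Equiv.Perm GolayPt) l := exists_mem_els x.2

theorem sqm_spec {w l : List ℕ} {x y : T} (hx : Rp (x : Equiv.Perm GolayPt) l) (hy : Rp (y : Equiv.Perm GolayPt) w)
    (h : sqm w l = true) : x * y⁻¹ ∈ frattini T := by
  have : Fact (Nat.Prime 2) := ⟨Nat.prime_two⟩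
  rw [sqm, List.any_eq_true] at h
  obtain ⟨m, hm, h1⟩ := h
  rw [beq_iff_eq] at h1
  obtain ⟨g, hg, hr⟩ := exists_els hm
  have h2 : x = (⟨g, hg⟩ : T) * ⟨g, hg⟩ * y := by
    apply Subtype.ext
    have h3 := (hr.mul hr).mul hy
    rw [h1] at h3
    exact hx.inj h3
  rw [h2, mul_inv_cancel_right, ← pow_two]
  exact Cfsg.Agent.Lib.FrattiniPGroup.pow_mem_frattini isPGroup_T _

theorem pow4_of {l : List ℕ} {x : T} (hx : Rp (x : Equiv.Perm GolayPt) l) (h : (pow4 l == idL) = true) : x ^ 4 = 1 := by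
  apply Subtype.ext
  have h1 := rp_pow4 hx
  rw [beq_iff_eq] at h
  rw [h] at h1
  exact h1.inj rp_one

theorem pow4_ne {l : List ℕ} {x : T} (hx : Rp (x : Equiv.Perm GolayPt) l) (h : ¬ (pow4 l == idL) = true) : x ^ 4 ≠ 1 := by
  intro h1
  apply h
  rw [beq_iff_eq]
  have h2 := rp_pow4 hx
  have h3 : (x : Equiv.Perm GolayPt) ^ 4 = 1 := congrArg Subtype.val h1
  rw [h3] at h2
  exact h2.unique rp_one

theorem rp_t (k : Fin 3) : Rp (tgen k : Equiv.Perm GolayPt) (gl.getD k []) := rp_gen k

/-- elements of order 8 -/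
theorem eight {x : T} (h : x ^ 4 ≠ 1) : x * (tgen 2)⁻¹ ∈ frattini T := by
  obtain ⟨l, hl, hr⟩ := exists_tab x
  have h1 := List.all_eq_true.1 chk1 l hl
  rw [Bool.or_eq_true] at h1
  rcases h1 with h1 | h1
  · exact absurd (pow4_of hr h1) h
  · exact sqm_spec hr (rp_t 2) h1

theorem two_ne : (tgen 2) ^ 4 ≠ 1 := fun h => gen_two_pow (congrArg Subtype.val h)

/-- the second element of order 8 -/
noncomputable def yy : T := tgen 2 * (tgen 0 * tgen 0)

theorem rp_yy : Rp (yy : Equiv.Perm GolayPt) y2 := (rp_t 2).mul ((rp_t 0).mul (rp_t 0))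

theorem yy_ne : yy ^ 4 ≠ 1 := pow4_ne rp_yy (by
  have h := chk4
  rw [Bool.not_eq_true'] at h
  rw [h]
  exact Bool.false_ne_true)

/-- the element `b₀` -/
noncomputable def bb : T := tgen 1 * tgen 0

theorem rp_bb : Rp (bb : Equiv.Perm GolayPt) b0 := (rp_t 1).mul (rp_t 0)

theorem comm_of {l m : List ℕ} {x y : T} (hx : Rp (x : Equiv.Perm GolayPt) l) (hy : Rp (y : Equiv.Perm GolayPt) m) :
    x * y = y * x ↔ (mulL l m == mulL m l) = true := by
  rw [beq_iff_eq]
  constructor
  · intro h
    have h1 := hx.mul hy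
    have h2 := hy.mul hx
    have h3 : (x : Equiv.Perm GolayPt) * y = y * x := congrArg Subtype.val h
    rw [h3] at h1
    exact h1.unique h2
  · intro h
    apply Subtype.ext
    have h1 := hx.mul hy
    rw [h] at h1
    exact h1.inj (hy.mul hx)

/-- `B = {x | x` centralises the squares of the elements of order 8`}` -/
def PB (x : T) : Prop := ∀ y : T, y ^ 4 ≠ 1 → x * (y * y) = (y * y) * x

theorem PB_bb : PB bb := by
  intro y hy
  obtain ⟨l, hl, hr⟩ := exists_tab y
  have h1 := List.all_eq_true.1 chk3 l hl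
  rw [Bool.or_eq_true] at h1
  rcases h1 with h1 | h1
  · exact absurd (pow4_of hr h1) hy
  · exact (comm_of rp_bb (hr.mul hr)).2 h1

theorem PB_cases {x : T} (h : PB x) : x ∈ frattini T ∨ x * bb⁻¹ ∈ frattini T := by
  obtain ⟨l, hl, hr⟩ := exists_tab x
  have h1 := List.all_eq_true.1 chk2 l hl
  have e1 := (comm_of hr ((rp_t 2).mul (rp_t 2))).1 (h _ two_ne)
  have e2 := (comm_of hr (rp_yy.mul rp_yy)).1 (h _ yy_ne)
  simp only [Bool.or_eq_true, Bool.not_eq_true'] at h1
  rcases h1 with ((h1 | h1) | h1) | h1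
  · exact absurd (e1.symm.trans h1) (by decide)
  · exact absurd (e2.symm.trans h1) (by decide)
  · left
    have h2 := sqm_spec (y := 1) hr rp_one h1
    rwa [inv_one, mul_one] at h2
  · exact Or.inr (sqm_spec hr rp_bb h1)

/-- **`T` has no automorphisms of odd order** -/
theorem rigid : Rigid T := by
  intro t ht
  have : Fact (Nat.Prime 2) := ⟨Nat.prime_two⟩
  have hΦ : ∀ x ∈ frattini T, t x ∈ frattini T := fun x hx =>
    (characteristic_iff_le_comap.1 (inferInstance : (frattini T).Characteristic) t) hx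
  have hΦ' : ∀ x, t x ∈ frattini T → x ∈ frattini T := fun x hx => by
    have h := (characteristic_iff_le_comap.1 (inferInstance : (frattini T).Characteristic) t.symm) hx
    rwa [mem_comap, MulEquiv.coe_toMonoidHom, MulEquiv.symm_apply_apply] at h
  have hn : (frattini T).Normal := inferInstance
  have hsq : ∀ x : T, x * x ∈ frattini T := fun x => by
    rw [← pow_two]
    exact Cfsg.Agent.Lib.FrattiniPGroup.pow_mem_frattini isPGroup_T x
  -- `g₂`
  have h2 : t (tgen 2) * (tgen 2)⁻¹ ∈ frattini T := by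
    apply eight
    rw [← map_pow]
    intro h
    exact two_ne ((map_eq_one_iff t t.injective).1 h)
  -- `b₀`
  have hb : t bb * bb⁻¹ ∈ frattini T := by
    have h3 : PB (t bb) := by
      intro y hy
      have h4 : (t.symm y) ^ 4 ≠ 1 := by
        rw [← map_pow]
        intro h
        exact hy ((map_eq_one_iff t.symm t.symm.injective).1 h)
      have h5 := congrArg t (PB_bb _ h4)
      simpa only [map_mul, MulEquiv.apply_symm_apply] using h5
    rcases PB_cases h3 with h4 | h4
    · exact (frattini T).mul_mem h4 ((frattini T).inv_mem (hΦ' _ h4))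
    · exact h4
  refine eq_one_of_mod isPGroup_T ht le_rfl
    (fix_all_gen ht hn hΦ hsq (tgen 0) closure_tgen fun x hx => ?_)
  rw [Finset.mem_coe, Finset.mem_image] at hx
  obtain ⟨k, -, rfl⟩ := hx
  fin_cases k
  · right
    show t (tgen 0 * (tgen 0)⁻¹) * (tgen 0 * (tgen 0)⁻¹)⁻¹ ∈ frattini T
    rw [mul_inv_cancel, map_one, inv_one, mul_one]
    exact (frattini T).one_mem
  · right
    show t (tgen 1 * (tgen 0)⁻¹) * (tgen 1 * (tgen 0)⁻¹)⁻¹ ∈ frattini T
    have e : tgen 1 * (tgen 0)⁻¹ = bb * ((tgen 0)⁻¹ * (tgen 0)⁻¹) := by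
      rw [bb]; group
    rw [e]
    have h5 : bb ∈ fixS t (frattini T) hn := hb
    have h6 : (tgen 0)⁻¹ * (tgen 0)⁻¹ ∈ fixS t (frattini T) hn :=
      (frattini T).mul_mem (hΦ _ (hsq _)) ((frattini T).inv_mem (hsq _))
    exact (mul_mem h5 h6 : _ ∈ fixS t (frattini T) hn)
  · exact Or.inl h2

/-! ### The rows -/

theorem kond_of_card {K : Type*} [Group K] [Finite K] (f : T →* K) (hf : Function.Injective f) {m : ℕ}
    (hc : Nat.card K = 128 * m) (hm : ¬ 2 ∣ m) : Kond K := by
  have : Fact (Nat.Prime 2) := ⟨Nat.prime_two⟩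
  have e := MonoidHom.ofInjective hf
  have h1 : Nat.card f.range = 2 ^ (Nat.card K).factorization 2 := by
    rw [← Nat.card_congr e.toEquiv, card_T, hc]
    have hm0 : m ≠ 0 := by rintro rfl; exact hm (dvd_zero 2)
    have h2 : (128 * m).factorization 2 = 7 := by
      rw [show (128 : ℕ) = 2 ^ 7 by norm_num, Nat.factorization_mul (by norm_num) hm0,
        Nat.Prime.factorization_pow Nat.prime_two, Finsupp.add_apply, Finsupp.single_eq_same,
        Nat.factorization_eq_zero_of_not_dvd hm]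
    rw [h2]
    norm_num
  exact kond_of_rigid rigid (Sylow.ofCard f.range h1) e

theorem kond_M22 : Kond Spor.M22 := by
  have hc := Cfsg.Agent.SporadicA.MathieuRecog.card_M22
  have : Finite Spor.M22 := Nat.finite_of_card_ne_zero (by rw [hc]; norm_num)
  exact kond_of_card (inclusion T_le) (inclusion_injective T_le) (m := 3465) hc (by norm_num)

theorem T_le_M23 : T ≤ Spor.M23 := fun _ hg => (T_le hg).1

theorem kond_M23 : Kond Spor.M23 := by
  have hc := Cfsg.Agent.SporadicA.MathieuRecog.card_M23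
  have : Finite Spor.M23 := Nat.finite_of_card_ne_zero (by rw [hc]; norm_num)
  exact kond_of_card (inclusion T_le_M23) (inclusion_injective T_le_M23) (m := 79695) hc (by norm_num)

universe u

/-- **(KOND') for `M22`** -/
theorem row_M22 {K : Type u} [Group K] (h : Spor.IsoM22 K) : Kond K := by
  obtain ⟨e⟩ := h
  have hc := Cfsg.Agent.SporadicA.MathieuRecog.card_M22
  have : Finite Spor.M22 := Nat.finite_of_card_ne_zero (by rw [hc]; norm_num)
  exact kond_M22.congr e.symm

/-- **(KOND') for `M23`** -/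
theorem row_M23 {K : Type u} [Group K] (h : Spor.IsoM23 K) : Kond K := by
  obtain ⟨e⟩ := h
  have hc := Cfsg.Agent.SporadicA.MathieuRecog.card_M23
  have : Finite Spor.M23 := Nat.finite_of_card_ne_zero (by rw [hc]; norm_num)
  exact kond_M23.congr e.symm

end Cfsg.Agent.Omega.Kond.RowM22
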